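import Mathlib
open Polynomial

namespace Groth.Agent.Helper5.MonoKaehler
universe u
variable (A B : Type u) [CommRing A] [CommRing B] [Algebra A B] (u : B)

lemma aeval_surj (hu : Algebra.adjoin A ({u} : Set B) = ⊤) :
    Function.Surjective (aeval u : A[X] →ₐ[A] B) := by
  rw [← AlgHom.range_eq_top, ← Algebra.adjoin_singleton_eq_range_aeval, hu]

theorem part1 (hu : Algebra.adjoin A ({u} : Set B) = ⊤) (F : A[X]) (hF : aeval u F = 0) :
    Ideal.span {aeval u (derivative F)} ≤ Module.annihilator B (Ω[B⁄A]) := by
  rw [Ideal.span_le, Set.singleton_subset_iff, SetLike.mem_coe, Module.mem_annihilator]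
  intro ω
  have hω : ω ∈ Submodule.span B (Set.range (KaehlerDifferential.D A B)) := by
    rw [KaehlerDifferential.span_range_derivation]; trivial
  have hDu : aeval u (derivative F) • KaehlerDifferential.D A B u = 0 := by
    rw [← Derivation.comp_aeval_eq, hF, map_zero]
  induction hω using Submodule.span_induction with
  | mem x hx =>
    obtain ⟨b, rfl⟩ := hx
    obtain ⟨p, rfl⟩ := aeval_surj A B u hu b
    rw [Derivation.comp_aeval_eq, smul_comm, hDu, smul_zero]
  | zero => simp
  | add x y _ _ hx hy => rw [smul_add, hx, hy, add_zero]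
  | smul a x _ hx => rw [smul_comm, hx, smul_zero]

section part2
variable (F : A[X]) (hu : Algebra.adjoin A ({u} : Set B) = ⊤)
  (hker : RingHom.ker (aeval u : A[X] →ₐ[A] B) = Ideal.span {F})

/-- the quotient `B / (F'(u))` -/
abbrev Q : Type u := B ⧸ Ideal.span {aeval u (derivative F)}

/-- `p ↦ [p'(u)]` -/
noncomputable def δ₀ : A[X] →ₗ[A] Q A B u F :=
  ((Ideal.Quotient.mkₐ A (Ideal.span {aeval u (derivative F)})).toLinearMap.comp
    (aeval u : A[X] →ₐ[A] B).toLinearMap).comp (derivative : A[X] →ₗ[A] A[X])

lemma δ₀_apply (p : A[X]) : δ₀ A B u F p = Ideal.Quotient.mk _ (aeval u (derivative p)) := rfl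

include hker in
lemma δ₀_eq_zero (p : A[X]) (hp : aeval u p = 0) : δ₀ A B u F p = 0 := by
  have hp' : p ∈ RingHom.ker (aeval u : A[X] →ₐ[A] B) := hp
  rw [hker, Ideal.mem_span_singleton] at hp'
  obtain ⟨r, rfl⟩ := hp'
  have hF : aeval u F = 0 := by
    have : F ∈ RingHom.ker (aeval u : A[X] →ₐ[A] B) := by
      rw [hker]; exact Ideal.mem_span_singleton_self F
    exact this
  rw [δ₀_apply, derivative_mul, map_add, map_mul, map_mul, hF, zero_mul, add_zero,
    Ideal.Quotient.eq_zero_iff_mem]
  exact Ideal.mul_mem_right _ _ (Ideal.mem_span_singleton_self _)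

include hker in
lemma δ₀_congr (p q : A[X]) (h : aeval u p = aeval u q) : δ₀ A B u F p = δ₀ A B u F q := by
  rw [← sub_eq_zero, ← map_sub]
  apply δ₀_eq_zero A B u F hker
  rw [map_sub, h, sub_self]

/-- the derivation `B → B/(F'(u))`, `p(u) ↦ [p'(u)]` -/
noncomputable def δ : Derivation A B (Q A B u F) :=
  Derivation.mk'
    { toFun := fun b => δ₀ A B u F (Function.surjInv (aeval_surj A B u hu) b)
      map_add' := fun b c => by
        rw [← map_add]
        apply δ₀_congr A B u F hker
        rw [map_add]
        simp only [Function.surjInv_eq (aeval_surj A B u hu)]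
      map_smul' := fun a b => by
        rw [RingHom.id_apply, ← map_smul]
        apply δ₀_congr A B u F hker
        rw [map_smul]
        simp only [Function.surjInv_eq (aeval_surj A B u hu)] }
    (fun b c => by
      simp only [LinearMap.coe_mk, AddHom.coe_mk]
      set p := Function.surjInv (aeval_surj A B u hu) b with hp
      set q := Function.surjInv (aeval_surj A B u hu) c with hq
      have hpb : aeval u p = b := Function.surjInv_eq (aeval_surj A B u hu) b
      have hqc : aeval u q = c := Function.surjInv_eq (aeval_surj A B u hu) c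
      have h1 : δ₀ A B u F (Function.surjInv (aeval_surj A B u hu) (b * c)) = δ₀ A B u F (p * q) := by
        apply δ₀_congr A B u F hker
        rw [Function.surjInv_eq (aeval_surj A B u hu), map_mul, hpb, hqc]
      rw [h1, δ₀_apply, δ₀_apply, δ₀_apply, derivative_mul, map_add, map_mul, map_mul, hpb, hqc,
        map_add, map_mul, map_mul]
      simp only [Algebra.smul_def, Ideal.Quotient.algebraMap_eq]
      ring)

lemma δ_aeval (p : A[X]) : δ A B u F hu hker (aeval u p) = Ideal.Quotient.mk _ (aeval u (derivative p)) := by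
  show δ₀ A B u F (Function.surjInv (aeval_surj A B u hu) (aeval u p)) = _
  rw [← δ₀_apply]
  apply δ₀_congr A B u F hker
  rw [Function.surjInv_eq (aeval_surj A B u hu)]

include hu hker in
theorem part2 :
    Module.annihilator B (Ω[B⁄A]) = Ideal.span {aeval u (derivative F)} := by
  have hF : aeval u F = 0 := by
    have : F ∈ RingHom.ker (aeval u : A[X] →ₐ[A] B) := by
      rw [hker]; exact Ideal.mem_span_singleton_self F
    exact this
  apply le_antisymm _ (part1 A B u hu F hF)
  intro b hb
  rw [Module.mem_annihilator] at hb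
  have h1 := hb (KaehlerDifferential.D A B u)
  have h2 := congrArg (δ A B u F hu hker).liftKaehlerDifferential h1
  rw [map_smul, Derivation.liftKaehlerDifferential_comp_D, map_zero] at h2
  have h3 : δ A B u F hu hker u = 1 := by
    have := δ_aeval A B u F hu hker X
    rw [aeval_X, derivative_X, map_one, map_one] at this
    exact this
  rw [h3, Algebra.smul_def, mul_one, Ideal.Quotient.algebraMap_eq, Ideal.Quotient.eq_zero_iff_mem] at h2
  exact h2

end part2

end Groth.Agent.Helper5.MonoKaehler
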